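import Groth.Agent.Sga7.H763.GmPow
import Groth.Agent.Sga7.H763.ToD
import Groth.Agent.Etdl.H428.SmLim
import Groth.Agent.Sga7.H938.StrictLocInd
import Groth.Agent.Sga2lef.H101.IndSmoothPoly

/-!
# Spectra of monoid algebras as limits of smooth schemes

* `isSmLim_str_rat`, `isSmLim_str_nnrat`: `Spec k[ℚ]`, `Spec k[ℚ≥0]` are limits of smooth `k`-schemes;
* `smooth_str_int`, `smooth_str_nat`: `Spec k[ℤ^r]`, `Spec k[ℕ^r]` are smooth over `k`;
* `isSmLim_toD`: a regular local `k`-algebra with a regular system of parameters is a limit of smooth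
  schemes over the affine space.
-/

set_option autoImplicit false
universe u

open CategoryTheory CategoryTheory.Limits AlgebraicGeometry Opposite
open scoped LaurentPolynomial Polynomial NNRat

namespace Groth.Agent.Sga7.H198.MonInd

open Groth.Agent.Sga7.H763 Groth.Agent.Sga7.H763.Dia Groth.Agent.Sga7.H763.ToD
open Groth.Agent.Sga7.H763.GmPow Groth.Agent.Etdl.H428.SmLim

section Ind

variable (k : Type u) [Field k]

theorem rm_inj {M M' : Type} [AddCommMonoid M] [AddCommMonoid M'] (f : M →+ M')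
    (hf : Function.Injective f) : Function.Injective (rm k f) := by
  intro x y h
  exact AddMonoidAlgebra.mapDomain_injective hf h

theorem exists_supp {M' : Type} [AddCommMonoid M'] (x : AddMonoidAlgebra k M') :
    ∃ s : Finset M', ∀ (M : Type) [AddCommMonoid M] (f : M →+ M'), (∀ m ∈ s, m ∈ Set.range f) →
      x ∈ (rm k f).range := by
  classical
  induction x using AddMonoidAlgebra.induction_linear with
  | zero => exact ⟨∅, fun M _ f _ => Subring.zero_mem _⟩
  | add x y hx hy =>
    obtain ⟨s, hs⟩ := hx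
    obtain ⟨t, ht⟩ := hy
    exact ⟨s ∪ t, fun M _ f h => Subring.add_mem _
      (hs M f fun m hm => h m (Finset.mem_union_left _ hm))
      (ht M f fun m hm => h m (Finset.mem_union_right _ hm))⟩
  | single m r =>
    refine ⟨{m}, fun M _ f h => ?_⟩
    obtain ⟨m', rfl⟩ := h m (Finset.mem_singleton_self m)
    exact ⟨AddMonoidAlgebra.single m' r, rm_single k f m' _⟩

/-- The algebra map attached to a homomorphism of monoids. -/
noncomputable def rma {M M' : Type} [AddCommMonoid M] [AddCommMonoid M'] (f : M →+ M') :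
    AddMonoidAlgebra k M →ₐ[k] AddMonoidAlgebra k M' :=
  { rm k f with commutes' := fun r => RingHom.congr_fun (rm_algebraMap k f) r }

theorem indSmooth {M : Type} [AddCommMonoid M]
    (h : ∀ s : Finset M, ∃ (M₀ : Type) (_ : AddCommMonoid M₀) (f : M₀ →+ M), Function.Injective f ∧
      (∀ m ∈ s, m ∈ Set.range f) ∧ Algebra.Smooth k (AddMonoidAlgebra k M₀)) :
    Smoothing.IndSmooth k (AddMonoidAlgebra k M) := by
  classical
  intro A _ _ hA φ
  obtain ⟨S, hS⟩ := (inferInstance : Algebra.FiniteType k A)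
  choose sp hsp using fun x : AddMonoidAlgebra k M => exists_supp k x
  obtain ⟨M₀, _, f, hf, hr, hsm⟩ := h (S.biUnion fun a => sp (φ a))
  have h1 : ∀ a : A, φ a ∈ (rma k f).range := by
    intro a
    have h2 : Algebra.adjoin k (S : Set A) ≤ (rma k f).range.comap φ := by
      rw [Algebra.adjoin_le_iff]
      intro a ha
      obtain ⟨y, hy⟩ := hsp (φ a) M₀ f fun m hm =>
        hr m (Finset.mem_biUnion.2 ⟨a, ha, hm⟩)
      exact ⟨y, hy⟩
    rw [hS] at h2
    exact h2 (Algebra.mem_top : a ∈ ⊤)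
  let e := AlgEquiv.ofInjective (rma k f) (rm_inj k f hf)
  let g : A →ₐ[k] AddMonoidAlgebra k M₀ := (e.symm : _ →ₐ[k] _).comp (φ.codRestrict _ h1)
  refine ⟨AddMonoidAlgebra k M₀, inferInstance, inferInstance, hsm, g, rma k f, ?_⟩
  refine AlgHom.ext fun a => ?_
  change rma k f (e.symm ⟨φ a, h1 a⟩) = φ a
  exact congrArg Subtype.val (e.apply_symm_apply ⟨φ a, h1 a⟩)

theorem smooth_laurent : Algebra.Smooth k (AddMonoidAlgebra k ℤ) := by
  have h1 : Algebra.Smooth k k[X] := inferInstance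
  have h2 : Algebra.Smooth k[X] k[T;T⁻¹] := by
    have := LaurentPolynomial.isLocalization (R := k)
    exact Algebra.Smooth.of_isLocalization_Away (Polynomial.X : k[X])
  have h3 : IsScalarTower k k[X] k[T;T⁻¹] := IsScalarTower.of_algebraMap_eq fun r => by
    rw [LaurentPolynomial.algebraMap_eq_toLaurent, Polynomial.algebraMap_apply, Algebra.algebraMap_self,
      RingHom.id_apply, Polynomial.toLaurent_C]
    rfl
  exact Algebra.Smooth.comp k k[X] k[T;T⁻¹]

theorem smooth_poly : Algebra.Smooth k (AddMonoidAlgebra k ℕ) := by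
  have h1 : Algebra.Smooth k k[X] := inferInstance
  exact Algebra.Smooth.of_equiv (Polynomial.toFinsuppIsoAlg k)

/-- common denominators -/
theorem exists_den (s : Finset ℚ) : ∃ N : ℕ, 0 < N ∧ ∀ m ∈ s, ∃ z : ℤ, m = (z : ℚ) / N := by
  refine ⟨∏ m ∈ s, m.den, Finset.prod_pos fun m _ => m.den_pos, fun m hm => ?_⟩
  obtain ⟨c, hc⟩ := Finset.dvd_prod_of_mem (fun m : ℚ => m.den) hm
  refine ⟨m.num * c, ?_⟩
  have h1 : (m.den : ℚ) ≠ 0 := by exact_mod_cast m.den_pos.ne'
  have h2 : (c : ℚ) ≠ 0 := by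
    have h3 : 0 < ∏ m ∈ s, m.den := Finset.prod_pos fun m _ => m.den_pos
    rw [hc] at h3
    exact_mod_cast (Nat.pos_of_mul_pos_left h3).ne'
  rw [hc]
  push_cast
  rw [eq_div_iff (mul_ne_zero h1 h2), ← mul_assoc, Rat.mul_den_eq_num]

theorem indSmooth_rat : Smoothing.IndSmooth k (AddMonoidAlgebra k ℚ) := by
  refine indSmooth k fun s => ?_
  obtain ⟨N, hN, h⟩ := exists_den s
  have hN' : (N : ℚ) ≠ 0 := by exact_mod_cast hN.ne'
  refine ⟨ℤ, inferInstance, (AddMonoidHom.mulRight ((N : ℚ)⁻¹)).comp (Int.castAddHom ℚ), ?_, ?_,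
    smooth_laurent k⟩
  · intro a b hab
    have : (a : ℚ) * (N : ℚ)⁻¹ = (b : ℚ) * (N : ℚ)⁻¹ := hab
    have h2 := mul_right_cancel₀ (inv_ne_zero hN') this
    exact_mod_cast h2
  · intro m hm
    obtain ⟨z, hz⟩ := h m hm
    exact ⟨z, by rw [hz, div_eq_mul_inv]; rfl⟩

theorem indSmooth_nnrat : Smoothing.IndSmooth k (AddMonoidAlgebra k ℚ≥0) := by
  classical
  refine indSmooth k fun s => ?_
  obtain ⟨N, hN, h⟩ := exists_den (s.image fun x : ℚ≥0 => (x : ℚ))
  have hN' : (N : ℚ≥0) ≠ 0 := by exact_mod_cast hN.ne'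
  refine ⟨ℕ, inferInstance, (AddMonoidHom.mulRight ((N : ℚ≥0)⁻¹)).comp (Nat.castAddMonoidHom ℚ≥0),
    ?_, ?_, smooth_poly k⟩
  · intro a b hab
    have : (a : ℚ≥0) * (N : ℚ≥0)⁻¹ = (b : ℚ≥0) * (N : ℚ≥0)⁻¹ := hab
    have h2 := mul_right_cancel₀ (inv_ne_zero hN') this
    exact_mod_cast h2
  · intro m hm
    obtain ⟨z, hz⟩ := h m (Finset.mem_image_of_mem _ hm)
    have hN'' : (0 : ℚ) < N := by exact_mod_cast hN
    have h0 : (0 : ℚ) ≤ z := by
      have h1 : (0 : ℚ) ≤ (m : ℚ) := m.coe_nonneg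
      rw [hz] at h1
      by_contra hcon
      push Not at hcon
      exact absurd h1 (not_le.2 (div_neg_of_neg_of_pos hcon hN''))
    obtain ⟨a, rfl⟩ : ∃ a : ℕ, z = a := ⟨z.toNat, by
      have : (0 : ℤ) ≤ z := by exact_mod_cast h0
      omega⟩
    refine ⟨a, ?_⟩
    apply NNRat.coe_injective
    change (((a : ℚ≥0) * (N : ℚ≥0)⁻¹ : ℚ≥0) : ℚ) = (m : ℚ)
    rw [hz]
    push_cast
    rw [div_eq_mul_inv]

theorem isSmLim_str_rat : IsSmLim (str k ℚ) :=
  isSmLim_specMap_of_indSmooth (indSmooth_rat k)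

theorem isSmLim_str_nnrat : IsSmLim (str k ℚ≥0) :=
  isSmLim_specMap_of_indSmooth (indSmooth_nnrat k)

theorem smooth_str_one_int : Smooth (str k ℤ) := by
  have h := smooth_laurent k
  unfold str D
  rw [HasRingHomProperty.Spec_iff (P := @Smooth)]
  exact (RingHom.smooth_algebraMap).2 h

theorem smooth_str_one_nat : Smooth (str k ℕ) := by
  have h := smooth_poly k
  unfold str D
  rw [HasRingHomProperty.Spec_iff (P := @Smooth)]
  exact (RingHom.smooth_algebraMap).2 h

theorem smooth_str_int (r : ℕ) : Smooth (str k (Fin r → ℤ)) := by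
  induction r with
  | zero => infer_instance
  | succ r ih =>
    have h1 := isPullback_str k (c0 ℤ r) (cs ℤ r) (bij_cons ℤ r)
    have h2 : Smooth (Dm k (cs ℤ r)) := MorphismProperty.of_isPullback h1 (smooth_str_one_int k)
    rw [← Dm_str k (cs ℤ r)]
    infer_instance

theorem smooth_str_nat (r : ℕ) : Smooth (str k (Fin r → ℕ)) := by
  induction r with
  | zero => infer_instance
  | succ r ih =>
    have h1 := isPullback_str k (c0 ℕ r) (cs ℕ r) (bij_cons ℕ r)
    have h2 : Smooth (Dm k (cs ℕ r)) := MorphismProperty.of_isPullback h1 (smooth_str_one_nat k)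
    rw [← Dm_str k (cs ℕ r)]
    infer_instance

end Ind

section Params

variable (k : Type u) [Field k] [CharZero k] (A : Type u) [CommRing A] [IsRegularLocalRing A]
  [Algebra k A]

/-- Functions on a finite set of variables. -/
noncomputable def ef (m : ℕ) : (Fin m →₀ ℕ) ≃+ (Fin m → ℕ) :=
  { Finsupp.equivFunOnFinite with map_add' := fun _ _ => rfl }

theorem isSmLim_toD_full {m : ℕ} (t : Fin m → A)
    (ht : Ideal.span (Set.range t) = IsLocalRing.maximalIdeal A) (hd : ringKrullDim A = m) :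
    IsSmLim (toD k (mpw t)) := by
  let al : MvPolynomial (Fin m) k →ₐ[k] A := MvPolynomial.aeval t
  let _ : Algebra (MvPolynomial (Fin m) k) A := al.toRingHom.toAlgebra
  have : IsScalarTower k (MvPolynomial (Fin m) k) A :=
    IsScalarTower.of_algebraMap_eq fun x => (al.commutes x).symm
  have h1 : Smoothing.IndSmooth (MvPolynomial (Fin m) k) A := by
    refine Groth.Agent.Sga2lef.H101.IndSmoothPoly.indSmooth_params hd ?_
    rw [← ht]
    congr 2
    funext i
    exact MvPolynomial.aeval_X t i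
  have h2 := isSmLim_specMap_of_indSmooth h1
  let e : D k (Fin m → ℕ) ≅ D k (Fin m →₀ ℕ) := Diso k (ef m)
  have h3 : toD k (mpw t) ≫ e.hom = Spec.map (CommRingCat.ofHom
      (algebraMap (MvPolynomial (Fin m) k) A)) := by
    refine (toD_Dm k (mpw t) (ef m).toAddMonoidHom).trans ?_
    unfold toD
    congr 2
    refine MvPolynomial.ringHom_ext (fun a => ?_) (fun i => ?_)
    · change mk k (algebraMap k A) _ (AddMonoidAlgebra.single 0 a) = al (MvPolynomial.C a)
      rw [mk_single, ofAdd_zero, map_one, mul_one]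
      exact (al.commutes a).symm
    · change mk k (algebraMap k A) _ (AddMonoidAlgebra.single (Finsupp.single i 1) 1) =
        al (MvPolynomial.X i)
      rw [mk_single, map_one, one_mul]
      change (mpw t) (Multiplicative.ofAdd (ef m (Finsupp.single i 1))) = _
      rw [mpw_ofAdd, MvPolynomial.aeval_X, Finset.prod_eq_single i]
      · simp [ef]
      · intro j _ hj
        simp [ef, Finsupp.single_eq_of_ne hj]
      · intro h
        exact absurd (Finset.mem_univ i) h
  rw [← h3] at h2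
  exact h2.of_isPullback (f := e.hom) (f' := 𝟙 _) (IsPullback.of_vert_isIso_mono ⟨rfl⟩)

end Params

end Groth.Agent.Sga7.H198.MonInd
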