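import Groth.Agent.Sga7.H763.GmPow
import Groth.Agent.Sga7.H560.QCov
import Groth.Agent.Sga7.H144.TowerRing
import Groth.Agent.Etrest.SHPoint
import Groth.Agent.Sga7.H198.MonInd
import Groth.Agent.S0162

/-!
# The universal cover of `G_m`: the facts used

`ctx`: `GmPow.Ctx k n` for `k` algebraically closed of characteristic `0` and `n > 0`.
-/

set_option autoImplicit false
universe u

open CategoryTheory CategoryTheory.Limits AlgebraicGeometry Opposite
open scoped Groth.Agent.Etcore.EtInst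
open Groth.Agent.Etcore.EtInst

namespace Groth.Agent.Sga7.H198.Ctx

open Groth.Agent.Sga7.H763 Groth.Agent.Sga7.H763.HIso Groth.Agent.Sga7.H763.BCn
open Groth.Agent.Sga7.H763.Dia Groth.Agent.Sga7.H763.GmPow
open Groth.Agent.Sga4h.StalkAcyc

/-- Sheaves killed by an integer invertible on `S`. -/
theorem isTorsionInvertibleOn_of_killedBy {S T : Scheme.{u}} {n : ℕ} (hu : IsUnit ((n : ℕ) : Γ(S, ⊤)))
    {F : EtCoh.Ab T} (hF : EtCoh.KilledBy n F) : EtPBC.IsTorsionInvertibleOn S F := by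
  intro U s x
  exact ⟨U, 𝟙 U, n, ⟨x, rfl⟩, hu, hF U _⟩

/-- Smooth base change. -/
theorem bcn_of_smooth {P P' : Scheme.{u}} {n : ℕ} (g : P' ⟶ P) [Smooth g]
    (hu : IsUnit ((n : ℕ) : Γ(P, ⊤))) : Bcn n g := by
  intro X X' f _ _ f' g' sq F hF
  have h := fun q => Groth.Agent.S0162.result g f f' g' sq F
    (isTorsionInvertibleOn_of_killedBy hu hF) q
  refine ⟨(h 0).2, fun h0 q hq => ?_⟩
  obtain ⟨e⟩ := (h q).1
  exact ((EtCoh.pull g).map_isZero (h0 q hq)).of_iso e.symm

variable (k : Type u) [Field k] [IsAlgClosed k] [CharZero k]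

/-- `Spec k[ℚ]` has the cohomology of a point. -/
theorem hpt_D_rat (n : ℕ) (hn : 0 < n) : HPt (D k ℚ) n := by
  refine ⟨fun q hq => Groth.Agent.Sga7.H144.TowerRing.H_towerRing k n hn q hq, ?_⟩
  have := Groth.Agent.Sga7.H144.TowerRing.connectedSpace k
  exact Groth.Agent.Etrest.SHPoint.nonempty_H0_const (Spec (CommRingCat.of (AddMonoidAlgebra k ℚ)))
    (ZMod n)

theorem ctx (n : ℕ) (hn : 0 < n) : GmPow.Ctx k n where
  hn := hn.ne'
  cyc := Groth.Agent.Sga7.H560.QCov.exists_cyc k n hn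
  int := Groth.Agent.Sga7.H560.QCov.isIntegralHom_tt k
  sm r := by
    have h1 : IsUnit (n : k) := isUnit_iff_ne_zero.2 (by exact_mod_cast hn.ne')
    have h2 := h1.map (Scheme.ΓSpecIso (CommRingCat.of k)).inv.hom
    rw [map_natCast] at h2
    have := Groth.Agent.Sga7.H198.MonInd.smooth_str_int k r
    exact @bcn_of_smooth _ _ n (str k (Fin r → ℤ)) this h2
  hQ := hpt_D_rat k n hn

end Groth.Agent.Sga7.H198.Ctx
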