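import Groth.Agent.Sga7.H198.UBcn
import Groth.Agent.Sga7.H198.MonInd
import Groth.Agent.Etdl.H428.RegBC

/-!
# Universal base change: the morphisms used

* `ubcn_of_isSmLim`: limits of smooth schemes;
* `ubcn_toD`: a regular local `k`-algebra with a part of a regular system of parameters over the affine space;
* `ubcn_str_rat`, `ubcn_str_nnrat`.
-/

set_option autoImplicit false
universe u

open CategoryTheory CategoryTheory.Limits AlgebraicGeometry Opposite
open scoped NNRat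

namespace Groth.Agent.Sga7.H198.UBcnMain

open Groth.Agent.Sga7.H763 Groth.Agent.Sga7.H763.BCn Groth.Agent.Sga7.H763.Dia
open Groth.Agent.Sga7.H763.ToD Groth.Agent.Sga7.H763.GmPow Groth.Agent.Sga7.H198.UBcn
open Groth.Agent.Etdl.H428.SmLim Groth.Agent.Sga7.H198.MonInd

/-- Sheaves killed by an integer invertible on `S`. -/
theorem isTorsionInvertibleOn_of_killedBy {S T : Scheme.{u}} {n : ℕ} (hu : IsUnit ((n : ℕ) : Γ(S, ⊤)))
    {F : EtCoh.Ab T} (hF : EtCoh.KilledBy n F) : EtPBC.IsTorsionInvertibleOn S F := by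
  intro U s x
  exact ⟨U, 𝟙 U, n, ⟨x, rfl⟩, hu, hF U _⟩

theorem isUnit_natCast {S S₁ : Scheme.{u}} (g : S₁ ⟶ S) {n : ℕ} (hn : IsUnit ((n : ℕ) : Γ(S, ⊤))) :
    IsUnit ((n : ℕ) : Γ(S₁, ⊤)) := by
  have h := hn.map g.appTop.hom
  rwa [map_natCast] at h

theorem isUnit_over {k : Type u} [Field k] [CharZero k] {S : Scheme.{u}}
    (a : S ⟶ Spec (CommRingCat.of k)) {n : ℕ} (hn : 0 < n) : IsUnit ((n : ℕ) : Γ(S, ⊤)) := by
  have h1 : IsUnit (n : k) := isUnit_iff_ne_zero.2 (by exact_mod_cast hn.ne')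
  have h2 := h1.map (Scheme.ΓSpecIso (CommRingCat.of k)).inv.hom
  rw [map_natCast] at h2
  exact isUnit_natCast a h2

theorem bcn_of_isSmLim {P P' : Scheme.{u}} {n : ℕ} {g : P' ⟶ P} (hg : IsSmLim g)
    (hu : IsUnit ((n : ℕ) : Γ(P, ⊤))) : BCn.Bcn n g := by
  intro X X' f _ _ f' g' sq F hF
  have h := fun q => Groth.Agent.Etdl.H428.RegBC.baseChange_of_isSmLim hg f f' g' sq F
    (isTorsionInvertibleOn_of_killedBy hu hF) q
  refine ⟨(h 0).2, fun h0 q hq => ?_⟩
  obtain ⟨e⟩ := (h q).1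
  exact ((EtCoh.pull g).map_isZero (h0 q hq)).of_iso e.symm

theorem ubcn_of_isSmLim {P P' : Scheme.{u}} {n : ℕ} {g : P' ⟶ P} (hg : IsSmLim g)
    (hu : IsUnit ((n : ℕ) : Γ(P, ⊤))) : UBcn n g := by
  intro Q' Q h g' h' sq
  exact bcn_of_isSmLim (hg.of_isPullback sq.flip) (isUnit_natCast h hu)

theorem ubcn_of_smooth {P P' : Scheme.{u}} {n : ℕ} (g : P' ⟶ P) [Smooth g]
    (hu : IsUnit ((n : ℕ) : Γ(P, ⊤))) : UBcn n g :=
  ubcn_of_isSmLim (Groth.Agent.Sga7.H938.StrictLocInd.isSmLim_of_smooth g) hu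

variable (k : Type u) [Field k] [CharZero k] {n : ℕ}

theorem ubcn_str_rat (hn : 0 < n) : UBcn n (str k ℚ) :=
  ubcn_of_isSmLim (isSmLim_str_rat k) (isUnit_over (𝟙 _) hn)

theorem ubcn_str_nnrat (hn : 0 < n) : UBcn n (str k ℚ≥0) :=
  ubcn_of_isSmLim (isSmLim_str_nnrat k) (isUnit_over (𝟙 _) hn)

/-- Extension by zero on the right. -/
def apl (c d : ℕ) : (Fin c → ℕ) →+ (Fin (c + d) → ℕ) where
  toFun x := Fin.append x 0
  map_zero' := by
    ext i
    refine Fin.addCases (fun i => ?_) (fun i => ?_) i <;> simp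
  map_add' x y := by
    ext i
    refine Fin.addCases (fun i => ?_) (fun i => ?_) i <;> simp

/-- Extension by zero on the left. -/
def apr (c d : ℕ) : (Fin d → ℕ) →+ (Fin (c + d) → ℕ) where
  toFun y := Fin.append 0 y
  map_zero' := by
    ext i
    refine Fin.addCases (fun i => ?_) (fun i => ?_) i <;> simp
  map_add' x y := by
    ext i
    refine Fin.addCases (fun i => ?_) (fun i => ?_) i <;> simp

theorem bij_append (c d : ℕ) :
    Function.Bijective (fun x : (Fin c → ℕ) × (Fin d → ℕ) => apl c d x.1 + apr c d x.2) := by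
  have h : (fun x : (Fin c → ℕ) × (Fin d → ℕ) => apl c d x.1 + apr c d x.2) =
      fun x => Fin.append x.1 x.2 := by
    funext x
    ext i
    refine Fin.addCases (fun i => ?_) (fun i => ?_) i <;> simp [apl, apr]
  rw [h]
  refine ⟨fun x y hxy => ?_, fun z => ⟨(fun i => z (Fin.castAdd d i), fun i => z (Fin.natAdd c i)), ?_⟩⟩
  · refine Prod.ext (funext fun i => ?_) (funext fun i => ?_)
    · have := congrFun hxy (Fin.castAdd d i)
      simpa using this
    · have := congrFun hxy (Fin.natAdd c i)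
      simpa using this
  · ext i
    refine Fin.addCases (fun i => ?_) (fun i => ?_) i <;> simp

omit [CharZero k] in
theorem toD_append {A : Type u} [CommRing A] [Algebra k A] {c d : ℕ} (T : Fin c → A)
    (S : Fin d → A) : toD k (mpw (Fin.append T S)) ≫ Dm k (apl c d) = toD k (mpw T) := by
  rw [toD_Dm]
  congr 1
  refine MonoidHom.ext fun x => ?_
  change ∏ i, (Fin.append T S i) ^ (Fin.append x.toAdd (0 : Fin d → ℕ) i) = ∏ i, T i ^ (x.toAdd i)
  rw [Fin.prod_univ_add]
  simp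

theorem ubcn_toD (hn : 0 < n) (A : Type u) [CommRing A] [IsRegularLocalRing A] [Algebra k A]
    (c d : ℕ) (T : Fin c → A) (S : Fin d → A)
    (hs : Ideal.span (Set.range T ∪ Set.range S) = IsLocalRing.maximalIdeal A)
    (hd : ringKrullDim A = ((c + d : ℕ) : WithBot ℕ∞)) : UBcn n (toD k (mpw T)) := by
  have h1 : Set.range (Fin.append T S) = Set.range T ∪ Set.range S := by
    ext x
    constructor
    · rintro ⟨i, rfl⟩
      refine Fin.addCases (fun i => ?_) (fun i => ?_) i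
      · exact Or.inl ⟨i, by simp⟩
      · exact Or.inr ⟨i, by simp⟩
    · rintro (⟨i, rfl⟩ | ⟨i, rfl⟩)
      · exact ⟨Fin.castAdd d i, by simp⟩
      · exact ⟨Fin.natAdd c i, by simp⟩
  have h2 : IsSmLim (toD k (mpw (Fin.append T S))) :=
    isSmLim_toD_full k A (Fin.append T S) (by rw [h1, hs]) hd
  have h3 := isPullback_str k (apl c d) (apr c d) (bij_append c d)
  have h4 : Smooth (Dm k (apl c d)) := MorphismProperty.of_isPullback h3.flip (smooth_str_nat k d)
  rw [← toD_append k T S]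
  exact @UBcn.comp _ _ _ n _ _
    (@ubcn_of_isSmLim _ _ n _ h2 (isUnit_over (str k _) hn))
    (@ubcn_of_smooth _ _ n (Dm k (apl c d)) h4 (isUnit_over (str k _) hn))

end Groth.Agent.Sga7.H198.UBcnMain
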