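import Groth.Agent.Sga7.H763.BCn

/-!
# Universal base change for `n`-torsion sheaves

`UBcn n g`: every base change of `g` satisfies `Bcn n`.
-/

set_option autoImplicit false
set_option linter.dupNamespace false
universe u

open CategoryTheory CategoryTheory.Limits AlgebraicGeometry

namespace Groth.Agent.Sga7.H198.UBcn

open Groth.Agent.Sga7.H763 Groth.Agent.Sga7.H763.BCn

variable {P P' P'' : Scheme.{u}} {n : ℕ}

/-- Every base change of `g` satisfies `Bcn n`. -/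
def UBcn (n : ℕ) (g : P' ⟶ P) : Prop :=
  ∀ {Q' Q : Scheme.{u}} (h : Q ⟶ P) (g' : Q' ⟶ Q) (h' : Q' ⟶ P'), IsPullback h' g' g h → BCn.Bcn n g'

theorem UBcn.bcn {g : P' ⟶ P} (hg : UBcn n g) : BCn.Bcn n g :=
  hg (𝟙 P) g (𝟙 P') IsPullback.of_id_fst

theorem UBcn.of_isPullback {g : P' ⟶ P} (hg : UBcn n g) {Q' Q : Scheme.{u}} {h : Q ⟶ P}
    {g' : Q' ⟶ Q} {h' : Q' ⟶ P'} (sq : IsPullback h' g' g h) : UBcn n g' :=
  fun a g'' a' sq' => hg (a ≫ h) g'' (a' ≫ h') (sq'.paste_horiz sq)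

theorem UBcn.comp {h : P'' ⟶ P'} {g : P' ⟶ P} (hh : UBcn n h) (hg : UBcn n g) :
    UBcn n (h ≫ g) := by
  intro Q'' Q a g'' a'' sq
  have sq1 := IsPullback.of_hasPullback g a
  have w : (a'' ≫ h) ≫ g = g'' ≫ a := by rw [Category.assoc, sq.w]
  have e1 : pullback.lift (a'' ≫ h) g'' w ≫ pullback.snd g a = g'' := pullback.lift_snd _ _ _
  have e2 : pullback.lift (a'' ≫ h) g'' w ≫ pullback.fst g a = a'' ≫ h := pullback.lift_fst _ _ _
  have sq2 : IsPullback a'' (pullback.lift (a'' ≫ h) g'' w) h (pullback.fst g a) := by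
    refine IsPullback.of_bot ?_ e2.symm sq1
    rw [e1]
    exact sq
  have h1 : BCn.Bcn n (pullback.snd g a) := hg a (pullback.snd g a) (pullback.fst g a) sq1
  have h2 : BCn.Bcn n (pullback.lift (a'' ≫ h) g'' w) := hh (pullback.fst g a) _ a'' sq2
  have h3 : BCn.Bcn n (pullback.lift (a'' ≫ h) g'' w ≫ pullback.snd g a) := h2.comp h1
  rw [e1] at h3
  exact @h3

end Groth.Agent.Sga7.H198.UBcn
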