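import Groth.Agent.Sga7.H77.Decomp

/-!
# Cutting a Kummer tower over a power map

`v : Z ⟶ D ℤ`, `Y = Z ×_{v^g, D ℤ} D ℚ`, `Y' = Z ×_{v^g, D ℤ, N} D ℤ` with `g ∣ N`: `Y'` is a disjoint union
of `g` open subschemes whose inverse images in `Y` are isomorphic to `Z ×_{v, D ℤ} D ℚ` over `Z`
(`exists_cut`).
-/

set_option autoImplicit false
universe u

open CategoryTheory CategoryTheory.Limits AlgebraicGeometry TopologicalSpace

namespace Groth.Agent.Sga7.H198.Cut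

open Groth.Agent.Sga7.H763.Dia Groth.Agent.Sga7.H77.MuSplit

variable {k : Type u} [Field k]

section Coe

variable {R R' : Type u} [CommRing R] [CommRing R'] {T T' : Scheme.{u}}

/-- The functions attached to a morphism to `Spec R`. -/
noncomputable def fn (t : T ⟶ Spec (CommRingCat.of R)) : R →+* Γ(T, ⊤) :=
  ((Scheme.ΓSpecIso (CommRingCat.of R)).inv ≫ t.appTop).hom

theorem fn_comp (s : T' ⟶ T) (t : T ⟶ Spec (CommRingCat.of R)) :
    fn (s ≫ t) = s.appTop.hom.comp (fn t) := by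
  unfold fn
  rw [Scheme.Hom.comp_appTop, ← Category.assoc]
  rfl

theorem fn_spec (t : T ⟶ Spec (CommRingCat.of R')) (r : R →+* R') :
    fn (t ≫ Spec.map (CommRingCat.ofHom r)) = (fn t).comp r := by
  have h : (Spec.map (CommRingCat.ofHom r)).appTop =
      (Scheme.ΓSpecIso (CommRingCat.of R)).hom ≫ CommRingCat.ofHom r ≫
        (Scheme.ΓSpecIso (CommRingCat.of R')).inv := by
    rw [← Category.assoc, Iso.eq_comp_inv]
    exact Scheme.ΓSpecIso_naturality _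
  unfold fn
  refine congrArg CommRingCat.Hom.hom
    (?_ : _ = CommRingCat.ofHom r ≫ ((Scheme.ΓSpecIso (CommRingCat.of R')).inv ≫ t.appTop))
  rw [Scheme.Hom.comp_appTop, h]
  simp

end Coe

section Idem

variable {T : Scheme.{u}} {n : ℕ} (e : Fin n → Γ(T, ⊤))

theorem disjoint_basicOpen {i j : Fin n} (h : e i * e j = 0) :
    Disjoint (T.basicOpen (e i) : Set T) (T.basicOpen (e j)) := by
  have h1 : T.basicOpen (e i) ⊓ T.basicOpen (e j) = ⊥ := by
    rw [← Scheme.basicOpen_mul, h, Scheme.basicOpen_zero]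
  rw [Set.disjoint_iff_inter_eq_empty]
  have h2 := congrArg (fun U : T.Opens => (U : Set T)) h1
  exact h2

theorem exists_mem_basicOpen (h : ∑ i, e i = 1) (x : T) : ∃ i, x ∈ T.basicOpen (e i) := by
  by_contra hx
  push Not at hx
  have h1 : ∀ i, T.presheaf.germ ⊤ x trivial (e i) ∈ IsLocalRing.maximalIdeal (T.presheaf.stalk x) := by
    intro i
    rw [IsLocalRing.mem_maximalIdeal]
    exact fun h' => hx i ((Scheme.mem_basicOpen_top T (e i) x).2 h')
  have h2 : T.presheaf.germ ⊤ x trivial (∑ i, e i) ∈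
      IsLocalRing.maximalIdeal (T.presheaf.stalk x) := by
    rw [map_sum]
    exact Ideal.sum_mem _ fun i _ => h1 i
  rw [h, map_one] at h2
  exact (Ideal.ne_top_iff_one _).1 (IsLocalRing.maximalIdeal.isMaximal _).ne_top h2

end Idem

section Cover

/-- Open pieces of a base change of a finite disjoint union. -/
theorem pieces {n : ℕ} {X E W Z Y : Scheme.{u}} (s : Fin n → (X ⟶ E)) [IsIso (Sigma.desc s)]
    (π : E ⟶ W) (v : Z ⟶ W) {a : Y ⟶ Z} {w : Y ⟶ E} (sq : IsPullback a w v π) {c : X ⟶ W}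
    (hc : ∀ i, s i ≫ π = c) {Y₀ : Scheme.{u}} {a₀ : Y₀ ⟶ Z} {x₀ : Y₀ ⟶ X}
    (sq₀ : IsPullback a₀ x₀ v c) (j : Fin n → (Y₀ ⟶ Y)) (hj : ∀ i, j i ≫ a = a₀)
    (hj' : ∀ i, j i ≫ w = x₀ ≫ s i) :
    (∀ i, IsOpenImmersion (j i)) ∧ ∀ y : Y, ∃ i, y ∈ Set.range (j i) := by
  have hι : ∀ i, s i = Sigma.ι (fun _ : Fin n => X) i ≫ Sigma.desc s := fun i => by simp
  have hs : ∀ i, IsOpenImmersion (s i) := fun i => by
    rw [hι i]
    infer_instance
  have hsq : ∀ i, IsPullback (j i) x₀ w (s i) := by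
    intro i
    refine IsPullback.of_right (h₁₂ := a) (h₂₂ := π) (v₁₃ := v) ?_ (hj' i) sq
    rw [hj, hc]
    exact sq₀
  refine ⟨fun i => MorphismProperty.of_isPullback (P := @IsOpenImmersion) (hsq i).flip (hs i),
    fun y => ?_⟩
  obtain ⟨z, hz⟩ := (Sigma.desc s).surjective (w y)
  obtain ⟨i, x, hx⟩ := (sigmaOpenCover (fun _ : Fin n => X)).exists_eq z
  have h1 : w y = s i x := by
    rw [hι i, Scheme.Hom.comp_apply, ← hz]
    exact congrArg (Sigma.desc s) hx.symm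
  obtain ⟨y₀, h2, -⟩ := Scheme.Pullback.exists_preimage_pullback (f := w) (g := s i) y x h1
  refine ⟨i, (hsq i).isoPullback.inv y₀, ?_⟩
  rw [← Scheme.Hom.comp_apply, (hsq i).isoPullback_inv_fst]
  exact h2

end Cover

variable [IsAlgClosed k] [CharZero k]

/-- **The cut.** -/
theorem exists_cut {g N' : ℕ} (hg : 0 < g) (hN' : 0 < N') {Z Y Y' Y₀ : Scheme.{u}}
    (v : Z ⟶ D k ℤ) {a : Y ⟶ Z} {b : Y ⟶ D k ℚ}
    (sq : IsPullback a b (v ≫ Dm k (AddMonoidHom.mulLeft (g : ℤ))) (Dm k (Int.castAddHom ℚ)))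
    {a' : Y' ⟶ Z} {b' : Y' ⟶ D k ℤ}
    (sq' : a' ≫ v ≫ Dm k (AddMonoidHom.mulLeft (g : ℤ)) =
      b' ≫ Dm k (AddMonoidHom.mulLeft ((g * N' : ℕ) : ℤ)))
    (p : Y ⟶ Y') (hp : p ≫ a' = a) (dN : ℤ →+ ℚ) (hdN : dN 1 = 1 / ((g * N' : ℕ) : ℚ))
    (hp' : p ≫ b' = b ≫ Dm k dN) {a₀ : Y₀ ⟶ Z} {b₀ : Y₀ ⟶ D k ℚ}
    (sq₀ : IsPullback a₀ b₀ v (Dm k (Int.castAddHom ℚ))) :
    ∃ W : Fin g → Y'.Opens, (∀ i j, i ≠ j → Disjoint (W i : Set Y') (W j)) ∧
      (∀ x : Y', ∃ i, x ∈ W i) ∧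
      ∀ i, ∃ j : Y₀ ⟶ Y, IsOpenImmersion j ∧ Set.range j = ((p ⁻¹ᵁ W i : Y.Opens) : Set Y) ∧
        j ≫ a = a₀ := by
  have hgk : (g : k) ≠ 0 := by exact_mod_cast hg.ne'
  have : NeZero (g : k) := ⟨hgk⟩
  obtain ⟨ζ₀, hζ₀⟩ := HasEnoughRootsOfUnity.exists_primitiveRoot k g
  let ζ : kˣ := (hζ₀.isUnit hg.ne').unit
  have hζ : IsPrimitiveRoot (ζ : k) g := hζ₀
  obtain ⟨χ, hχ⟩ := exists_character k g hg ζ
  -- the decomposition of `Y`
  have hpo := isPushout_mul hgk hζ hχ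
  have hpb := isPullback_SpecMap_of_isPushout _ _ _ _ hpo
  let PE : Scheme.{u} := Spec (CommRingCat.of (Fin g → AddMonoidAlgebra k ℚ))
  let s : Fin g → (D k ℚ ⟶ PE) := fun i => Spec.map (CommRingCat.ofHom (Pi.evalRingHom
        (fun _ : Fin g => CommRingCat.of (AddMonoidAlgebra k ℚ)) i))
  let π : PE ⟶ D k ℤ := Spec.map (CommRingCat.ofHom (inl k g))
  let ρ : PE ⟶ D k ℚ := Spec.map (CommRingCat.ofHom (inr k g χ))
  have hE : IsPullback π ρ (Dm k (AddMonoidHom.mulLeft (g : ℤ))) (Dm k (Int.castAddHom ℚ)) := hpb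
  have hsπ : ∀ i, s i ≫ π = Dm k (Int.castAddHom ℚ) := fun i => (Spec.map_comp _ _).symm
  have hsρ : ∀ i, s i ≫ ρ = (Spec.map (CommRingCat.ofHom (bb k g χ i)) : D k ℚ ⟶ D k ℚ) :=
    fun i => (Spec.map_comp _ _).symm
  have hs : IsIso (Sigma.desc s) :=
    Groth.Agent.Sga7.H77.Decomp.isIso_desc_pi g (CommRingCat.of (AddMonoidAlgebra k ℚ))
  let w : Y ⟶ PE := hE.lift (a ≫ v) b (by rw [Category.assoc]; exact sq.w)
  have hw1 : w ≫ π = a ≫ v := hE.lift_fst _ _ _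
  have hw2 : w ≫ ρ = b := hE.lift_snd _ _ _
  have sqE : IsPullback a w v π := by
    refine IsPullback.of_bot ?_ hw1.symm hE
    rw [hw2]
    exact sq
  let j : Fin g → (Y₀ ⟶ Y) := fun i => sqE.lift a₀ (b₀ ≫ s i) (by
    rw [Category.assoc, hsπ]
    exact sq₀.w)
  have hj1 : ∀ i, j i ≫ a = a₀ := fun i => sqE.lift_fst _ _ _
  have hj2 : ∀ i, j i ≫ w = b₀ ≫ s i := fun i => sqE.lift_snd _ _ _
  obtain ⟨hjo, hjc⟩ := pieces s π v sqE hsπ sq₀ j hj1 hj2
  -- the functions on `Y'`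
  let A : AddMonoidAlgebra k ℤ →+* Γ(Y', ⊤) := fn (a' ≫ v : Y' ⟶ Spec (CommRingCat.of _))
  let B : AddMonoidAlgebra k ℤ →+* Γ(Y', ⊤) := fn (b' : Y' ⟶ Spec (CommRingCat.of _))
  have hAB : A.comp (rm k (AddMonoidHom.mulLeft (g : ℤ))) =
      B.comp (rm k (AddMonoidHom.mulLeft ((g * N' : ℕ) : ℤ))) := by
    have e1 := fn_spec (a' ≫ v : Y' ⟶ Spec (CommRingCat.of (AddMonoidAlgebra k ℤ)))
      (rm k (AddMonoidHom.mulLeft (g : ℤ)))
    have e2 := fn_spec (b' : Y' ⟶ Spec (CommRingCat.of (AddMonoidAlgebra k ℤ)))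
      (rm k (AddMonoidHom.mulLeft ((g * N' : ℕ) : ℤ)))
    refine e1.symm.trans (Eq.trans ?_ e2)
    refine congrArg fn ?_
    refine (Category.assoc _ _ _).trans ?_
    exact sq'
  let h : Γ(Y', ⊤) := A (AddMonoidAlgebra.single 1 1) * B (AddMonoidAlgebra.single (-(N' : ℤ)) 1)
  have hh : h ^ g = 1 := by
    have h1 := RingHom.congr_fun hAB (AddMonoidAlgebra.single 1 1)
    rw [RingHom.comp_apply, RingHom.comp_apply, rm_single, rm_single] at h1
    have e1 : (AddMonoidHom.mulLeft (g : ℤ)) 1 = g • (1 : ℤ) := by simp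
    rw [e1] at h1
    change (A _ * B _) ^ g = 1
    rw [mul_pow, ← map_pow, ← map_pow, AddMonoidAlgebra.single_pow, AddMonoidAlgebra.single_pow,
      one_pow, h1, ← map_mul, AddMonoidAlgebra.single_mul_single]
    have e3 : (AddMonoidHom.mulLeft ((g * N' : ℕ) : ℤ)) 1 + g • (-(N' : ℤ)) = 0 := by
      simp
    rw [e3, mul_one]
    exact map_one B
  let e : Fin g → Γ(Y', ⊤) := fun i => E g (ζ : k) (cst B) h i
  have he1 : ∑ i, e i = 1 := by
    change ∑ i : Fin g, E g (ζ : k) (cst B) h i = 1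
    rw [Fin.sum_univ_eq_sum_range (fun i => E g (ζ : k) (cst B) h i) g]
    exact sum_E hζ hgk _ _
  have he2 : ∀ i j : Fin g, i ≠ j → e i * e j = 0 := by
    intro i j hij
    have h1 := E_mul_E hζ hgk (cst B) hh j.2 i.2
    rw [if_neg (fun h' => hij (Fin.ext h'))] at h1
    exact h1
  -- pull back to `Y`
  let Q : (Fin g → AddMonoidAlgebra k ℚ) →+* Γ(Y, ⊤) := fn w
  have hpA : p.appTop.hom.comp A = Q.comp (inl k g) := by
    have e1 := fn_comp p (a' ≫ v : Y' ⟶ Spec (CommRingCat.of (AddMonoidAlgebra k ℤ)))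
    have e2 := fn_spec w (inl k g)
    refine e1.symm.trans (Eq.trans ?_ e2)
    refine congrArg fn ?_
    refine (Category.assoc _ _ _).symm.trans ?_
    rw [hp]
    exact hw1.symm
  have hpB : p.appTop.hom.comp B = (Q.comp (inr k g χ)).comp (rm k dN) := by
    have e1 := fn_comp p (b' : Y' ⟶ Spec (CommRingCat.of (AddMonoidAlgebra k ℤ)))
    have e2 := fn_spec w (inr k g χ)
    have e3 := fn_spec (b : Y ⟶ Spec (CommRingCat.of (AddMonoidAlgebra k ℚ))) (rm k dN)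
    refine e1.symm.trans ?_
    refine Eq.trans (congrArg fn hp') ?_
    refine e3.trans ?_
    refine congrArg (fun z => RingHom.comp z (rm k dN)) (Eq.trans ?_ e2)
    exact congrArg fn hw2.symm
  have hpe : ∀ i, p.appTop.hom (e i) = Q (Pi.single i 1) := by
    intro i
    have hgQ : (g : ℚ) ≠ 0 := by positivity
    have hNQ : (N' : ℚ) ≠ 0 := by positivity
    have e0 : p.appTop.hom (e i) = E g (ζ : k) (p.appTop.hom.comp (cst B)) (p.appTop.hom h) i :=
      map_E g (ζ : k) (cst B) h i p.appTop.hom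
    have e4 := map_E g (ζ : k) (cst (inr k g χ)) (inl k g (AddMonoidAlgebra.single 1 1) *
        inr k g χ (AddMonoidAlgebra.single (-(g : ℚ)⁻¹) 1)) i Q
    rw [E_pi hgk hζ hχ i] at e4
    have e1 : p.appTop.hom.comp (cst B) = Q.comp (cst (inr k g χ)) := by
      refine RingHom.ext fun r => ?_
      have h1 := RingHom.congr_fun hpB (AddMonoidAlgebra.single 0 r)
      rw [RingHom.comp_apply, RingHom.comp_apply, rm_single, map_zero] at h1
      exact h1
    have e2 : p.appTop.hom h = Q (inl k g (AddMonoidAlgebra.single 1 1) *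
        inr k g χ (AddMonoidAlgebra.single (-(g : ℚ)⁻¹) 1)) := by
      have h1 := RingHom.congr_fun hpA (AddMonoidAlgebra.single 1 1)
      have h2 := RingHom.congr_fun hpB (AddMonoidAlgebra.single (-(N' : ℤ)) 1)
      rw [RingHom.comp_apply, RingHom.comp_apply] at h1
      rw [RingHom.comp_apply, RingHom.comp_apply, RingHom.comp_apply, rm_single] at h2
      have h3 : dN (-(N' : ℤ)) = -(g : ℚ)⁻¹ := by
        have h4 : dN (-(N' : ℤ)) = (-(N' : ℤ)) • dN 1 := by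
          rw [← map_zsmul]
          simp
        rw [h4, hdN, zsmul_eq_mul]
        push_cast
        rw [neg_mul, one_div, mul_inv_rev, ← mul_assoc, mul_inv_cancel₀ hNQ, one_mul]
      rw [h3] at h2
      change p.appTop.hom (A _ * B _) = _
      rw [map_mul, map_mul, h1, h2]
    refine e0.trans (Eq.trans ?_ e4.symm)
    rw [e1, e2]
  have hje : ∀ i l, (j l).appTop.hom (p.appTop.hom (e i)) = if l = i then 1 else 0 := by
    intro i l
    have e1 := fn_comp (j l) w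
    have e2 := fn_spec (b₀ : Y₀ ⟶ Spec (CommRingCat.of (AddMonoidAlgebra k ℚ)))
      (Pi.evalRingHom (fun _ : Fin g => AddMonoidAlgebra k ℚ) l)
    have e3 : (j l).appTop.hom.comp Q = (fn (b₀ : Y₀ ⟶ Spec (CommRingCat.of (AddMonoidAlgebra k ℚ)))).comp
        (Pi.evalRingHom (fun _ : Fin g => AddMonoidAlgebra k ℚ) l) := by
      refine e1.symm.trans (Eq.trans ?_ e2)
      exact congrArg fn (hj2 l)
    rw [hpe]
    refine (RingHom.congr_fun e3 (Pi.single i 1)).trans ?_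
    rw [RingHom.comp_apply, Pi.evalRingHom_apply]
    split_ifs with hl
    · subst hl
      rw [Pi.single_eq_same, map_one]
    · rw [Pi.single_eq_of_ne hl, map_zero]
  refine ⟨fun i => Y'.basicOpen (e i), fun i j hij => disjoint_basicOpen e (he2 i j hij),
    exists_mem_basicOpen e he1, fun i => ⟨j i, hjo i, ?_, hj1 i⟩⟩
  have key : ∀ l (y : Y₀), j l y ∈ p ⁻¹ᵁ Y'.basicOpen (e i) ↔ l = i := by
    intro l y
    have h1 : j l y ∈ p ⁻¹ᵁ Y'.basicOpen (e i) ↔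
        y ∈ (j l) ⁻¹ᵁ p ⁻¹ᵁ Y'.basicOpen (e i) := Iff.rfl
    rw [h1, Scheme.preimage_basicOpen_top, Scheme.preimage_basicOpen_top]
    change y ∈ Y₀.basicOpen ((j l).appTop.hom (p.appTop.hom (e i))) ↔ _
    rw [hje]
    split_ifs with hl
    · simp [hl]
    · simp [hl]
  ext y
  constructor
  · rintro ⟨y, rfl⟩
    exact (key i y).2 rfl
  · intro hy
    obtain ⟨l, y, rfl⟩ := hjc y
    obtain rfl := (key l y).1 hy
    exact ⟨y, rfl⟩

end Groth.Agent.Sga7.H198.Cut
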