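import Groth.Agent.Models.H73.Disj
import Groth.Agent.Sga7.H763.HIso
import Groth.Agent.Sga4B.HpullSquare
import Groth.Agent.EtpbcB.IntegralDegZero
import Groth.Agent.Sga4A.IntegralSection
import Groth.Agent.Etcore.HC

/-!
# Surjectivity of pull-back maps on a finite disjoint union

`surjective_hp_of_cover`: `p : Y ⟶ X`, `X` a finite disjoint union of open subschemes `W i`; if
`H^q(W i, M) ⟶ H^q(p⁻¹ W i, M)` is surjective for all `i`, so is `H^q(X, M) ⟶ H^q(Y, M)`.
-/

set_option autoImplicit false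
set_option backward.isDefEq.respectTransparency.types false
universe u

open CategoryTheory CategoryTheory.Limits AlgebraicGeometry Opposite Abelian
open scoped Groth.Agent.Etcore.EtInst
open Groth.Agent.Etcore.EtInst

namespace Groth.Agent.Sga7.H198.SurjCover

open Groth.Agent.Etcore Groth.Agent.Etcore.HpullCalc Groth.Agent.Sga7.H763.HIso
open Groth.Agent.Sga4B.ConstLC Groth.Agent.Etcore.CompSES Groth.Agent.Etcore.CompH

attribute [local instance] Groth.Agent.Etcore.HQ.pfl

variable {X Y Z W : Scheme.{u}}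

/-- Surjectivity only depends on the sheaf up to isomorphism. -/
theorem surjective_hp_of_iso (f : X ⟶ Y) {G G' : EtCoh.Ab Y} (e : G ≅ G') {q : ℕ}
    (h : Function.Surjective (hp f G q)) : Function.Surjective (hp f G' q) := by
  intro y
  obtain ⟨x, hx⟩ := h (HHmap ((EtCoh.pull f).map e.inv) q y)
  refine ⟨HHmap e.hom q x, ?_⟩
  rw [hp_map, hx, ← HHmap_comp, ← Functor.map_comp, e.inv_hom_id, CategoryTheory.Functor.map_id]
  exact HHmap_id _ _ _

/-- If `f ≫ g` induces a surjection for `G`, so does `f` for `g⁻¹ G`. -/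
theorem surjective_hp_of_comp (f : X ⟶ Y) (g : Y ⟶ Z) (G : EtCoh.Ab Z) {q : ℕ}
    (h : Function.Surjective (hp (f ≫ g) G q)) :
    Function.Surjective (hp f ((EtCoh.pull g).obj G) q) := by
  intro y
  obtain ⟨x, hx⟩ := h (HHmap ((EtCore.pullComp f g).inv.app G) q y)
  refine ⟨hp g G q x, ?_⟩
  rw [hp_comp, hx, ← HHmap_comp, Iso.inv_hom_id_app]
  exact HHmap_id _ _ _

/-- Surjectivity for a finite direct sum. -/
theorem surjective_hp_biproduct (f : X ⟶ Y) {n : ℕ} (G : Fin n → EtCoh.Ab Y) {q : ℕ}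
    (h : ∀ i, Function.Surjective (hp f (G i) q)) : Function.Surjective (hp f (⨁ G) q) := by
  intro y
  choose x hx using fun i => h i (HHmap ((EtCoh.pull f).map (biproduct.π G i)) q y)
  refine ⟨∑ i, HHmap (biproduct.ι G i) q (x i), ?_⟩
  rw [map_sum]
  have h1 : ∀ i, hp f (⨁ G) q (HHmap (biproduct.ι G i) q (x i)) =
      HHmap ((EtCoh.pull f).map (biproduct.π G i ≫ biproduct.ι G i)) q y := by
    intro i
    rw [hp_map, hx, ← HHmap_comp, ← Functor.map_comp]
  rw [Finset.sum_congr rfl fun i _ => h1 i]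
  let T : (((EtCoh.pull f).obj (⨁ G)) ⟶ ((EtCoh.pull f).obj (⨁ G))) →+
      HH X ((EtCoh.pull f).obj (⨁ G)) q :=
    { toFun := fun φ => HHmap φ q y
      map_zero' := by
        rw [HHmap_apply, Ext.mk₀_zero, Ext.comp_zero]
      map_add' := fun φ ψ => by
        rw [HHmap_apply, HHmap_apply, HHmap_apply, Ext.mk₀_add, Ext.comp_add] }
  have h2 : ∑ i, T ((EtCoh.pull f).map (biproduct.π G i ≫ biproduct.ι G i)) = T (𝟙 _) := by
    rw [← map_sum, ← Functor.map_sum, biproduct.total, CategoryTheory.Functor.map_id]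
  exact h2.trans (HHmap_id _ _ _)

/-- Surjectivity for a direct image along an integral morphism. -/
theorem surjective_hp_push {Y' Z' : Scheme.{u}} (h : Y ⟶ Z) (t : Z' ⟶ Z) (t' : Y' ⟶ Y) (h' : Y' ⟶ Z')
    [IsIntegralHom t] (sq : IsPullback h' t' t h) (G : EtCoh.Ab Z') {q : ℕ}
    (H : Function.Surjective (hp h' G q)) : Function.Surjective (hp h ((EtCoh.push t).obj G) q) := by
  have i1 : IsIntegralHom t' := MorphismProperty.of_isPullback sq ‹_›
  have i2 := Groth.Agent.Sga4A.EtSplit.preservesFiniteColimits_push t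
  have i3 := Groth.Agent.Sga4A.EtSplit.preservesFiniteColimits_push t'
  have i4 : IsIso (EtCoh.baseChange0 t h t' h' sq.w G) :=
    Groth.Agent.EtpbcB.IntegralDegZero.isIso_baseChange0 t sq G
  exact Groth.Agent.Sga4B.HpullSquare.surjective_Hpull_push h t t' h' sq.w G q H

variable {n : ℕ} (W : Fin n → X.Opens) (hd : ∀ i j, i ≠ j → Disjoint (W i : Set X) (W j))
  (hc : ∀ x : X, ∃ i, x ∈ W i)

include hd hc in
theorem isIso_φ (M : Type) [AddCommGroup M] : IsIso (φ (fun i => (W i).ι) (ULift.{u + 1} M)) := by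
  have hci := Groth.Agent.Models.H73.Disj.isClosedImmersion_ι W hd hc
  let D : Data (fun i => (W i).ι) :=
    { V := W
      T := ∅
      homeo := fun i => by
        have h1 : IsOpenImmersion ((W i).ι ∣_ W i) := inferInstance
        refine ⟨inferInstance, ⟨fun y => ⟨⟨⟨y.1, y.2⟩, y.2⟩, ?_⟩⟩⟩
        apply Subtype.ext
        rw [morphismRestrict_base_coe]
        rfl
      disj := fun i j hij => by
        rw [Scheme.Opens.range_ι]
        exact hd j i hij
      closed := fun x hx => absurd hx (Finset.notMem_empty x)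
      sepClosed := fun x hx => absurd hx (Finset.notMem_empty x)
      cover := fun x _ => hc x
      surj := fun x => by
        obtain ⟨i, hi⟩ := hc x
        exact ⟨i, by rw [Scheme.Opens.range_ι]; exact hi⟩ }
  have h0 : IsZero (cokernel (φ (fun i => (W i).ι) (ULift.{u + 1} M))) :=
    EtpbcA.Artin.isZero_of_forall _ fun x hx => by
      have := supp_coker (fun i => (W i).ι) M D hx
      simp [D] at this
  have hm : Mono (φ (fun i => (W i).ι) (ULift.{u + 1} M)) := mono_φ _ _ D.surj
  have he : Epi (φ (fun i => (W i).ι) (ULift.{u + 1} M)) :=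
    Preadditive.epi_of_isZero_cokernel _ h0
  exact isIso_of_mono_of_epi _

include hd hc in
/-- **Surjectivity on a finite disjoint union.** -/
theorem surjective_hp_of_cover (p : Y ⟶ X) (M : Type) [AddCommGroup M] (q : ℕ)
    (h : ∀ i, Function.Surjective (hp (p ∣_ W i) (EtCoh.const (W i : Scheme.{u}) M) q)) :
    Function.Surjective (hp p (EtCoh.const X M) q) := by
  have hci := Groth.Agent.Models.H73.Disj.isClosedImmersion_ι W hd hc
  have hi := isIso_φ W hd hc M
  refine surjective_hp_of_iso p ((constIso X M) ≪≫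
    asIso (φ (fun i => (W i).ι) (ULift.{u + 1} M))).symm ?_
  refine surjective_hp_biproduct p _ fun i => ?_
  refine surjective_hp_push p (W i).ι (p ⁻¹ᵁ W i).ι (p ∣_ W i)
    (isPullback_morphismRestrict p (W i)) _ ?_
  exact surjective_hp_of_iso _ (constIso (W i : Scheme.{u}) M) (h i)

end Groth.Agent.Sga7.H198.SurjCover
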