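import Groth.Agent.Sga7.H198.Cut
import Groth.Agent.Sga7.H198.SurjCover

/-!
# Surjectivity of pull-back along Kummer towers over a power map

`surjective_HC`: `v : Z ⟶ D ℤ`, `Y = Z ×_{v^g, D ℤ} D ℚ`, `Y' = Z ×_{v^g, D ℤ, N} D ℤ` with `N = g N'`.  If
`Z ×_{v, D ℤ} D ℚ ⟶ Z ⟶ B` induces isomorphisms on cohomology with coefficients `ℤ/n`, then
`H^q(Y', ℤ/n) ⟶ H^q(Y, ℤ/n)` is surjective.
-/

set_option autoImplicit false
set_option backward.isDefEq.respectTransparency.types false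
universe u

open CategoryTheory CategoryTheory.Limits AlgebraicGeometry Opposite Abelian
open scoped Groth.Agent.Etcore.EtInst
open Groth.Agent.Etcore.EtInst

namespace Groth.Agent.Sga7.H198.TorusSurj

open Groth.Agent.Etcore Groth.Agent.Etcore.HpullCalc Groth.Agent.Sga7.H763.HIso
open Groth.Agent.Sga7.H763.Dia

attribute [local instance] Groth.Agent.Etcore.HQ.pfl

variable {k : Type u} [Field k] [IsAlgClosed k] [CharZero k]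

/-- The form with `hp`. -/
theorem surjective_hp {n : ℕ} {g N' : ℕ} (hg : 0 < g) (hN' : 0 < N') {Z B Y Y' : Scheme.{u}}
    (v : Z ⟶ D k ℤ) (z' : Z ⟶ B)
    (H : Groth.Agent.Sga7.H763.HIso.HC n (pullback.fst v (Dm k (Int.castAddHom ℚ)) ≫ z'))
    {yZ : Y ⟶ Z} {yQ : Y ⟶ D k ℚ}
    (sq : IsPullback yZ yQ (v ≫ Dm k (AddMonoidHom.mulLeft (g : ℤ))) (Dm k (Int.castAddHom ℚ)))
    {y'Z : Y' ⟶ Z} {s : Y' ⟶ D k ℤ}
    (sq' : y'Z ≫ v ≫ Dm k (AddMonoidHom.mulLeft (g : ℤ)) =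
      s ≫ Dm k (AddMonoidHom.mulLeft ((g * N' : ℕ) : ℤ)))
    (p : Y ⟶ Y') (hp1 : p ≫ y'Z = yZ) (l : ℤ →+ ℚ) (hl : l 1 = 1 / ((g * N' : ℕ) : ℚ))
    (hp2 : p ≫ s = yQ ≫ Dm k l) (q : ℕ) :
    Function.Surjective (hp p (EtCoh.const Y' (ZMod n)) q) := by
  obtain ⟨W, hd, hc, hW⟩ := Cut.exists_cut hg hN' v sq sq' p hp1 l hl hp2
    (IsPullback.of_hasPullback v (Dm k (Int.castAddHom ℚ)))
  refine SurjCover.surjective_hp_of_cover W hd hc p (ZMod n) q fun i => ?_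
  obtain ⟨j, hj, hr, hj1⟩ := hW i
  have hr' : Set.range j = Set.range (p ⁻¹ᵁ W i).ι := by
    rw [hr, Scheme.Opens.range_ι]
  let e := IsOpenImmersion.isoOfRangeEq j (p ⁻¹ᵁ W i).ι hr'
  have he : e.hom ≫ (p ⁻¹ᵁ W i).ι = j := IsOpenImmersion.isoOfRangeEq_hom_fac _ _ _
  have h1 : e.hom ≫ ((p ∣_ W i) ≫ (W i).ι ≫ y'Z ≫ z') =
      pullback.fst v (Dm k (Int.castAddHom ℚ)) ≫ z' := by
    rw [morphismRestrict_ι_assoc, reassoc_of% he, reassoc_of% hp1, reassoc_of% hj1]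
  have h2 : Groth.Agent.Sga7.H763.HIso.HC n ((p ∣_ W i) ≫ ((W i).ι ≫ y'Z ≫ z')) :=
    (hC_isIso_comp_iff e.hom _).1 ((hC_congr h1).2 H)
  have h3 := SurjCover.surjective_hp_of_comp (p ∣_ W i) ((W i).ι ≫ y'Z ≫ z') _ (h2 q).2
  exact SurjCover.surjective_hp_of_iso _ (EtCore.pullConst ((W i).ι ≫ y'Z ≫ z') (ZMod n)) h3

theorem surjective_HC {n : ℕ} {g N' : ℕ} (hg : 0 < g) (hN' : 0 < N') {Z B Y Y' : Scheme.{u}}
    (v : Z ⟶ D k ℤ) (z' : Z ⟶ B)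
    (H : Groth.Agent.Sga7.H763.HIso.HC n (pullback.fst v (Dm k (Int.castAddHom ℚ)) ≫ z'))
    {yZ : Y ⟶ Z} {yQ : Y ⟶ D k ℚ}
    (sq : IsPullback yZ yQ (v ≫ Dm k (AddMonoidHom.mulLeft (g : ℤ))) (Dm k (Int.castAddHom ℚ)))
    {y'Z : Y' ⟶ Z} {s : Y' ⟶ D k ℤ}
    (sq' : IsPullback y'Z s (v ≫ Dm k (AddMonoidHom.mulLeft (g : ℤ)))
      (Dm k (AddMonoidHom.mulLeft ((g * N' : ℕ) : ℤ))))
    (p : Y ⟶ Y') (hp1 : p ≫ y'Z = yZ) (l : ℤ →+ ℚ) (hl : l 1 = 1 / ((g * N' : ℕ) : ℚ))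
    (hp2 : p ≫ s = yQ ≫ Dm k l) (q : ℕ) :
    Function.Surjective (Groth.Agent.Etcore.HC.HC (ZMod n) p q) := by
  have h := surjective_hp hg hN' v z' H sq sq'.w p hp1 l hl hp2 q
  exact (HHmap_bijective (EtCore.pullConst p (ZMod n)).hom q).2.comp h

end Groth.Agent.Sga7.H198.TorusSurj
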